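import Groth.Agent.L12.FiltReesExt
import Groth.Agent.L12.GrLCPos
import Groth.Agent.L04.LC.Change
import Groth.Agent.L04.LC.Annihilate
import Mathlib.Algebra.Polynomial.Laurent

/-!
# Local cohomology of a filtered ring from that of its associated graded ring

If `H^q_{G₊}(G) = 0`, then multiplication by `u = T⁻¹` is surjective on `H^q_J(R')`, `R'` the
extended Rees algebra and `J` the ideal of forms of positive degree.  The pieces of high degree
vanish, so `H^q_J(R') = 0`; inverting `u` gives `H^q_{F¹}(A) = 0`.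
-/

set_option autoImplicit false
set_option linter.style.haveILetI false
set_option maxHeartbeats 1000000

universe u

noncomputable section

open DirectSum LaurentPolynomial

namespace Groth.L04.FiltLC

open Groth.L12.GrLCLib Groth.L12.FiltReesExt Groth.L04.LC CategoryTheory

variable {A : Type u} [CommRing A] (𝓕 : FiltBl.IdealFiltration A)

/-- the ideal of forms of positive degree -/
def posIdeal : Ideal 𝓕.extRees :=
  Ideal.span {x : 𝓕.extRees | ∃ n : ℤ, 0 < n ∧ ∃ a : A, (x : A[T;T⁻¹]) = C a * T n}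

lemma posIdeal_eq :
    posIdeal 𝓕 = Ideal.span (⋃ n ∈ Set.Ioi (0 : ℤ), (gpiece 𝓕 n : Set 𝓕.extRees)) := by
  unfold posIdeal
  congr 1
  ext x
  simp only [Set.mem_ofPred_eq, Set.mem_iUnion₂, Set.mem_Ioi, SetLike.mem_coe]
  constructor
  · rintro ⟨n, hn, a, hx⟩
    refine ⟨n, hn, fun i hi => ?_⟩
    rw [hx, ← single_eq_C_mul_T, AddMonoidAlgebra.coeff_single, Finsupp.single_eq_of_ne hi]
  · rintro ⟨n, hn, hx⟩
    refine ⟨n, hn, (x : A[T;T⁻¹]).coeff n, ?_⟩
    rw [← single_eq_C_mul_T]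
    refine LaurentPolynomial.ext fun i => ?_
    rw [AddMonoidAlgebra.coeff_single, Finsupp.single_apply]
    split_ifs with h
    · rw [h]
    · exact hx i (Ne.symm h)

lemma posIdeal_isHomogeneous : (posIdeal 𝓕).IsHomogeneous (gpiece 𝓕) := by
  rw [posIdeal_eq]
  refine Ideal.homogeneous_span _ _ fun x hx => ?_
  obtain ⟨n, -, hn⟩ := Set.mem_iUnion₂.1 hx
  exact ⟨n, hn⟩

variable [IsNoetherianRing A]

/-- multiplication by `u` is surjective on `H^q_J(R')` when `H^q_{G₊}(G) = 0` -/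
theorem surjective_smul_u (hfg : Algebra.FiniteType A 𝓕.rees) (q : ℕ)
    (hG : Subsingleton (LocCoh.H ((posIdeal 𝓕).map (Ideal.Quotient.mk (Ideal.span {𝓕.u}))) q 𝓕.Gr))
    (x : LocCoh.H (posIdeal 𝓕) q 𝓕.extRees) :
    ∃ y : LocCoh.H (posIdeal 𝓕) q 𝓕.extRees, 𝓕.u • y = x := by
  haveI := finiteType_extRees 𝓕 hfg
  haveI : IsNoetherianRing 𝓕.extRees := Algebra.FiniteType.isNoetherianRing A 𝓕.extRees
  let m : 𝓕.extRees →ₗ[𝓕.extRees] 𝓕.extRees := 𝓕.u • LinearMap.id
  let p : 𝓕.extRees →ₗ[𝓕.extRees] 𝓕.Gr := (Ideal.Quotient.mkₐ 𝓕.extRees (Ideal.span {𝓕.u})).toLinearMap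
  have hm : Function.Injective m := u_regular 𝓕
  have hp : Function.Surjective p := Ideal.Quotient.mk_surjective
  have hex : Function.Exact m p := fun z => by
    change Ideal.Quotient.mk (Ideal.span {𝓕.u}) z = 0 ↔ z ∈ Set.range (fun y => 𝓕.u • y)
    rw [Ideal.Quotient.eq_zero_iff_mem, Ideal.mem_span_singleton']
    constructor
    · rintro ⟨y, hy⟩
      exact ⟨y, by rw [← hy]; exact mul_comm _ _⟩
    · rintro ⟨y, rfl⟩
      exact ⟨y, mul_comm _ _⟩
  obtain ⟨φ, -⟩ := exists_H_restrict_equiv (R := 𝓕.extRees) (R' := 𝓕.Gr) (posIdeal 𝓕) q 𝓕.Gr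
  haveI h1 : Subsingleton (LocCoh.H (posIdeal 𝓕) q 𝓕.Gr) := by
    haveI := hG
    exact φ.symm.toEquiv.subsingleton
  obtain ⟨y, hy⟩ := (H_exact₂ (posIdeal 𝓕) (ses_shortExact m p hm hp hex) q x).1 (h1.elim _ _)
  exact ⟨y, (map_smul_id (posIdeal 𝓕) q (ModuleCat.of _ 𝓕.extRees) 𝓕.u y).symm.trans hy⟩

/-- `H^q_J(R') = 0` -/
theorem subsingleton_H_extRees (hfg : Algebra.FiniteType A 𝓕.rees) (q : ℕ)
    (hG : Subsingleton (LocCoh.H ((posIdeal 𝓕).map (Ideal.Quotient.mk (Ideal.span {𝓕.u}))) q 𝓕.Gr)) :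
    Subsingleton (LocCoh.H (posIdeal 𝓕) q 𝓕.extRees) := by
  haveI := finiteType_extRees 𝓕 hfg
  haveI : IsNoetherianRing 𝓕.extRees := Algebra.FiniteType.isNoetherianRing A 𝓕.extRees
  let a : HomogeneousIdeal (gpiece 𝓕) := ⟨posIdeal 𝓕, posIdeal_isHomogeneous 𝓕⟩
  obtain ⟨⟨r, hr⟩, -⟩ := bound_and_finite a (posIdeal_eq 𝓕) q 𝓕.extRees (gpiece 𝓕) inferInstance
  obtain ⟨E⟩ := nonempty_starInjRes (gpiece 𝓕) (gpiece 𝓕)
  obtain ⟨e⟩ := nonempty_H_equiv E a q
  have hpow : ∀ (m : ℕ) (x : E.H a q), ∃ y, 𝓕.u ^ m • y = x := by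
    intro m
    induction m with
    | zero => exact fun x => ⟨x, by rw [pow_zero, one_smul]⟩
    | succ m ih =>
      intro x
      obtain ⟨y, hy⟩ := ih x
      obtain ⟨z, hz⟩ := surjective_smul_u 𝓕 hfg q hG (e y)
      exact ⟨e.symm z, by rw [pow_succ, mul_smul, ← map_smul, hz, e.symm_apply_apply, hy]⟩
  letI := (Hgr_isInternal a E q).chooseDecomposition
  have key : ∀ (g : ℤ), ∀ x ∈ E.Hgr a q g, x = 0 := fun g x hx => by
    obtain ⟨m, hm⟩ : ∃ m : ℕ, r ≤ g + m := ⟨(r - g).toNat, by omega⟩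
    obtain ⟨y, rfl⟩ := hpow m x
    have hu : 𝓕.u ^ m ∈ gpiece 𝓕 (-(m : ℤ)) := by
      have h := SetLike.pow_mem_graded m (u_mem_gpiece 𝓕)
      simpa using h
    let L : E.H a q →ₗ[𝓕.extRees] E.H a q := 𝓕.u ^ m • LinearMap.id
    have hc := cp_map_deg (E.Hgr a q) (E.Hgr a q) L.toAddMonoidHom (-(m : ℤ))
      (fun h z hz => by rw [add_comm h]; exact smul_mem_Hgr E a q hu hz) (g + m) y
    rw [show g + (m : ℤ) + -(m : ℤ) = g from by ring] at hc
    rw [← cp_same (E.Hgr a q) hx]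
    refine hc.trans ?_
    have hm' := cp_mem (E.Hgr a q) (g + m) y
    rw [hr (g + m) hm E, AddSubgroup.mem_bot] at hm'
    rw [hm', map_zero]
  haveI : Subsingleton (E.H a q) := subsingleton_of_forall_eq 0 fun x => eq_zero_of_cp (E.Hgr a q)
    fun g => key g _ (cp_mem _ g x)
  exact e.symm.toEquiv.subsingleton

/-- `H^q_{F¹}(A) = 0` -/
theorem subsingleton_H (hfg : Algebra.FiniteType A 𝓕.rees) (q : ℕ)
    (hG : Subsingleton (LocCoh.H ((posIdeal 𝓕).map (Ideal.Quotient.mk (Ideal.span {𝓕.u}))) q 𝓕.Gr)) :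
    Subsingleton (LocCoh.H (𝓕.F 1) q A) := by
  haveI := finiteType_extRees 𝓕 hfg
  haveI : IsNoetherianRing 𝓕.extRees := Algebra.FiniteType.isNoetherianRing A 𝓕.extRees
  haveI hJ := subsingleton_H_extRees 𝓕 hfg q hG
  let S : Submonoid 𝓕.extRees := Submonoid.powers 𝓕.u
  let R'' := Localization S
  haveI : IsNoetherianRing R'' := IsLocalization.isNoetherianRing S R'' inferInstance
  haveI hloc : Subsingleton (LocalizedModule S (LocCoh.H (posIdeal 𝓕) q 𝓕.extRees)) := by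
    refine subsingleton_of_forall_eq 0 fun z => ?_
    induction z using LocalizedModule.induction_on with
    | h a s => rw [hJ.elim a 0, LocalizedModule.zero_mk]
  obtain ⟨e1⟩ := nonempty_localized_H_equiv (posIdeal 𝓕) S R'' q 𝓕.extRees R''
    (Algebra.linearMap 𝓕.extRees R'') _ (LocalizedModule.mkLinearMap S (LocCoh.H (posIdeal 𝓕) q 𝓕.extRees))
  haveI hR'' : Subsingleton (LocCoh.H ((posIdeal 𝓕).map (algebraMap 𝓕.extRees R'')) q R'') :=
    e1.symm.toEquiv.subsingleton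
  have hideal : (posIdeal 𝓕).map (algebraMap 𝓕.extRees R'') = (𝓕.F 1).map (algebraMap A R'') := by
    refine le_antisymm (Ideal.map_le_iff_le_comap.2 (Ideal.span_le.2 ?_)) (Ideal.map_le_iff_le_comap.2 fun a ha => ?_)
    · rintro x ⟨n, hn, a, hx⟩
      rw [SetLike.mem_coe, Ideal.mem_comap]
      have ha : a ∈ 𝓕.F 1 := by
        have h := x.2 n
        rw [hx, ← single_eq_C_mul_T, AddMonoidAlgebra.coeff_single, Finsupp.single_eq_same] at h
        exact 𝓕.antitone (by omega) h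
      have heq : 𝓕.u ^ n.toNat * x = algebraMap A 𝓕.extRees a := Subtype.ext (by
        rw [Subalgebra.coe_mul, Subalgebra.coe_pow, coe_u, hx, T_pow, Subalgebra.coe_algebraMap,
          LaurentPolynomial.algebraMap_apply, Algebra.algebraMap_self, RingHom.id_apply, mul_left_comm, ← T_add,
          show ((n.toNat : ℤ) * -1 + n) = 0 by omega, T_zero, mul_one])
      have h2 : algebraMap 𝓕.extRees R'' (𝓕.u ^ n.toNat) * algebraMap 𝓕.extRees R'' x = algebraMap A R'' a := by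
        rw [← map_mul, heq, ← IsScalarTower.algebraMap_apply]
      obtain ⟨v, hv⟩ := (IsLocalization.map_units R'' (⟨𝓕.u ^ n.toNat, n.toNat, rfl⟩ : S)).exists_left_inv
      rw [show algebraMap 𝓕.extRees R'' x = v * algebraMap A R'' a by rw [← h2, ← mul_assoc, hv, one_mul]]
      exact Ideal.mul_mem_left _ _ (Ideal.mem_map_of_mem _ ha)
    · rw [Ideal.mem_comap, IsScalarTower.algebraMap_apply A 𝓕.extRees R'']
      refine Ideal.mem_map_of_mem _ ?_
      have ha1 : a ∈ 𝓕.F (1 : ℤ).toNat := ha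
      have heq : algebraMap A 𝓕.extRees a = 𝓕.u * mon 𝓕 1 a ha1 := Subtype.ext (by
        rw [Subalgebra.coe_mul, coe_u, coe_mon, Subalgebra.coe_algebraMap, LaurentPolynomial.algebraMap_apply,
          Algebra.algebraMap_self, RingHom.id_apply, single_eq_C_mul_T, mul_left_comm, ← T_add,
          show ((-1 : ℤ) + 1) = 0 by omega, T_zero, mul_one])
      rw [heq]
      refine Ideal.mul_mem_left _ _ (Ideal.subset_span ⟨1, one_pos, a, ?_⟩)
      rw [coe_mon, single_eq_C_mul_T]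
  rw [hideal] at hR''
  obtain ⟨φ, -⟩ := exists_H_restrict_equiv (R := A) (R' := R'') (𝓕.F 1) q R''
  haveI : Subsingleton (LocCoh.H (𝓕.F 1) q R'') := φ.symm.toEquiv.subsingleton
  let ψ : R'' →+* A[T;T⁻¹] := IsLocalization.lift (M := S) (g := 𝓕.extRees.val.toRingHom) fun y => by
    obtain ⟨_, k, rfl⟩ := y
    rw [map_pow]
    exact (isUnit_T (-1)).pow k
  have hψ : ∀ (c : A), ψ (algebraMap A R'' c) = C c := fun c => by
    rw [IsScalarTower.algebraMap_apply A 𝓕.extRees R'', IsLocalization.lift_eq]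
    exact (𝓕.extRees.val.commutes c).trans (LaurentPolynomial.algebraMap_apply c)
  let π : R'' →ₗ[A] A :=
    { toFun := fun z => (ψ z).coeff 0
      map_add' := fun y z => by rw [map_add, AddMonoidAlgebra.coeff_add, Finsupp.add_apply]
      map_smul' := fun c z => by
        rw [Algebra.smul_def, map_mul, hψ, ← single_eq_C, AddMonoidAlgebra.coeff_single_zero_mul]
        rfl }
  have hπ : π ∘ₗ Algebra.linearMap A R'' = LinearMap.id := LinearMap.ext fun c => by
    show (ψ (algebraMap A R'' c)).coeff 0 = c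
    rw [hψ, ← single_eq_C, AddMonoidAlgebra.coeff_single, Finsupp.single_eq_same]
  refine subsingleton_of_forall_eq 0 fun x => ?_
  have h := map_comp_apply (𝓕.F 1) q (Algebra.linearMap A R'') π x
  rw [hπ, Subsingleton.elim (((localCohomology (𝓕.F 1) q).map (ModuleCat.ofHom (Algebra.linearMap A R''))).hom x) 0,
    map_zero] at h
  refine (Eq.trans ?_ h.symm)
  change x = ((localCohomology (𝓕.F 1) q).map (𝟙 (ModuleCat.of A A))).hom x
  rw [CategoryTheory.Functor.map_id]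
  rfl

end Groth.L04.FiltLC
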